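import Groth.Agent.Lib.SurfRR10.Proj
import Groth.Agent.Lib.SurfRR10.Main
import Groth.Agent.Lib.NumPoly18.SurfBir
import Groth.Agent.Lib.ArInter.Deg
import Groth.Agent.Lib.RelAmple18.Generation
import Groth.Agent.Lib.CurveTwist13.PullIdeal

/-!
# Birational change of the Euler characteristic on surfaces
-/

set_option autoImplicit false
set_option linter.style.haveILetI false
set_option linter.unusedSectionVars false
set_option maxHeartbeats 1000000
set_option backward.isDefEq.respectTransparency false
set_option backward.isDefEq.respectTransparency.types false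

universe u

open CategoryTheory CategoryTheory.Limits AlgebraicGeometry TopologicalSpace Opposite

noncomputable section

namespace Groth.Agent.NormalRR10

open Groth.Agent.HypSq10 (rep rep_inv cls_rep chi)
open Groth.Agent.SymSq10 (sdot)
open Groth.Agent.Abel10 (pc)

noncomputable local instance instLawBasic (Y : Scheme.{u}) : PicGrp.Law Y := M2.law Y

section avoid

variable (k : Type u) [Field k] [Infinite k] {X : Scheme.{u}} [X.Over (Spec (CommRingCat.of k))]

theorem gen_iff_isUnit {M : X.Modules} {x : X} (e : M.presheaf.stalk x ≃ₗ[X.presheaf.stalk x] X.presheaf.stalk x)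
    (a : M.presheaf.stalk x) : Amp.Gen a ↔ IsUnit (e a) := by
  constructor
  · intro h
    obtain ⟨r, hr⟩ := h.2 (e.symm 1)
    refine IsUnit.of_mul_eq_one r ?_
    have h2 := congrArg e hr
    simp only [map_smul, LinearEquiv.apply_symm_apply, smul_eq_mul] at h2
    rwa [mul_comm]
  · intro h
    refine ⟨fun r r' hr => ?_, fun b => ⟨e b * ↑h.unit⁻¹, e.injective ?_⟩⟩
    · have h2 := congrArg e hr
      simp only [map_smul, smul_eq_mul] at h2
      exact h.mul_right_cancel h2
    · simp only [map_smul, smul_eq_mul]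
      rw [mul_assoc, IsUnit.val_inv_mul, mul_one]

include k in
/-- A globally generated invertible module has a section generating at finitely many given points. -/
theorem exists_section_gen {M : X.Modules} (hM : PicF.IsInvertible M) (hg : Curv2.IsGloballyGenerated M)
    (F : Finset X) : ∃ φ : Coh.structureModule X ⟶ M, ∀ x ∈ F, x ∈ CohB1.genLocus M φ := by
  classical
  have he : ∀ x : X, Nonempty (M.presheaf.stalk x ≃ₗ[X.presheaf.stalk x] X.presheaf.stalk x) := fun x => by
    obtain ⟨e⟩ := CurveCoh17.nonempty_stalk_equiv ((M2.isInvertible_iff_isFinLocFreeOfRank_one M).1 hM) x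
    exact ⟨e ≪≫ₗ LinearEquiv.funUnique (Fin 1) _ _⟩
  let v : ∀ x : X, Coh.HH X M 0 → X.presheaf.stalk x := fun x z =>
    (he x).some (M.presheaf.germ ⊤ x trivial (CurveCoh17.hh0 M z))
  let bad : X → Submodule k (Coh.HH X M 0) := fun x =>
    { carrier := {z | v x z ∈ IsLocalRing.maximalIdeal (X.presheaf.stalk x)}
      add_mem' := fun {a b} ha hb => by
        simp only [Set.mem_setOf_eq, v, map_add] at ha hb ⊢
        exact add_mem ha hb
      zero_mem' := by
        simp only [Set.mem_setOf_eq, v, map_zero]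
        exact zero_mem _
      smul_mem' := fun c a ha => by
        simp only [Set.mem_setOf_eq, v] at ha ⊢
        have h1 : CurveCoh17.hh0 M (c • a) =
            (show Γ(X, ⊤) from Coh.toGlobal (X ↘ Spec (CommRingCat.of k)) c) • CurveCoh17.hh0 M a :=
          CurveCoh17.hh0_smul (M := M) _ a
        rw [h1, M1.germ_smul, map_smul, smul_eq_mul]
        exact Ideal.mul_mem_left _ _ ha }
  have hv : ∀ (x : X) (z : Coh.HH X M 0),
      x ∈ CohB1.genLocus M (M1.secHom (CurveCoh17.hh0 M z)) ↔ z ∉ bad x := fun x z => by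
    rw [Amp.mem_genLocus_iff hM, Amp.gval_secHom, gen_iff_isUnit (he x).some]
    exact (not_iff_not.1 (by
      rw [not_not]
      exact (IsLocalRing.mem_maximalIdeal (v x z)).symm))
  have hne : ∀ x : X, bad x ≠ ⊤ := fun x htop => by
    obtain ⟨t, ht⟩ := RA.exists_gen_of_isGloballyGenerated hM hg x
    have h := hv x ((CurveCoh17.hh0 M).symm (Amp.gval t))
    rw [AddEquiv.apply_symm_apply, Amp.secHom_gval] at h
    exact h.1 ht (htop ▸ Submodule.mem_top)
  have h := Submodule.iUnion_ssubset_of_forall_ne_top_of_card_lt F bad hne (by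
    rw [ENat.card_eq_top_of_infinite (α := k)]
    exact lt_top_iff_ne_top.2 (by simp))
  obtain ⟨z, -, hz⟩ := Set.exists_of_ssubset h
  exact ⟨M1.secHom (CurveCoh17.hh0 M z), fun x hx => (hv x z).2 fun hb => hz (Set.mem_iUnion₂.2 ⟨x, hx, hb⟩)⟩

end avoid

section iso

/-- Direct image of the structure module along a morphism bijective on sections. -/
theorem nonempty_push_structureModule {X S : Scheme.{u}} (f : X ⟶ S) (h : ∀ V : S.Opens, Function.Bijective (f.app V)) :
    Nonempty ((Scheme.Modules.pushforward f).obj (Coh.structureModule X) ≅ Coh.structureModule S) := by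
  let η : Coh.structureModule S ⟶ (Scheme.Modules.pushforward f).obj (Coh.structureModule X) :=
    SheafOfModules.unitToPushforwardObjUnit f.toRingCatSheafHom
  haveI : IsIso η := Scheme.Modules.Hom.isIso_iff_isIso_app.2 fun V =>
    (ConcreteCategory.isIso_iff_bijective _).2 (h V)
  exact ⟨(asIso η).symm⟩

variable {k : Type u} [Field k] {X Y : Scheme.{u}} [X.Over (Spec (CommRingCat.of k))]
  [Y.Over (Spec (CommRingCat.of k))] (φ : Y ⟶ X)
  (hφ : φ ≫ (X ↘ Spec (CommRingCat.of k)) = Y ↘ Spec (CommRingCat.of k))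

theorem euler_quot_eq' (I : X.IdealSheafData) :
    letI : I.subscheme.Over (Spec (CommRingCat.of k)) := ⟨I.subschemeι ≫ (X ↘ Spec (CommRingCat.of k))⟩
    Curv2.euler k X (ClSub.quotMod I) = Curv2.euler k I.subscheme (Coh.structureModule I.subscheme) := by
  letI : I.subscheme.Over (Spec (CommRingCat.of k)) := ⟨I.subschemeι ≫ (X ↘ Spec (CommRingCat.of k))⟩
  exact AmpleFin18.euler_push I.subschemeι rfl _ (M1.isQCoh_structureModule _)

include hφ in
/-- A closed subscheme in the locus where `φ` is an isomorphism pulls back without change. -/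
theorem euler_quot_comap (U : X.Opens) (hU : IsIso (φ ∣_ U)) (I : X.IdealSheafData)
    (hI : (I.support : Set X) ⊆ U) :
    Curv2.euler k Y (ClSub.quotMod (I.comap φ)) = Curv2.euler k X (ClSub.quotMod I) := by
  rw [euler_quot_eq' I, euler_quot_eq' (I.comap φ)]
  letI : I.subscheme.Over (Spec (CommRingCat.of k)) := ⟨I.subschemeι ≫ (X ↘ Spec (CommRingCat.of k))⟩
  letI : (I.comap φ).subscheme.Over (Spec (CommRingCat.of k)) :=
    ⟨(I.comap φ).subschemeι ≫ (Y ↘ Spec (CommRingCat.of k))⟩
  have hr : Set.range I.subschemeι ⊆ Set.range U.ι := by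
    rw [Scheme.IdealSheafData.range_subschemeι, Scheme.Opens.range_ι]
    exact hI
  let l : I.subscheme ⟶ U := IsOpenImmersion.lift U.ι I.subschemeι hr
  have hl : l ≫ U.ι = I.subschemeι := IsOpenImmersion.lift_fac _ _ _
  haveI h1 : IsIso (pullback.snd φ U.ι) := by
    have h := (isPullback_morphismRestrict φ U).flip
    rw [show pullback.snd φ U.ι = h.isoPullback.inv ≫ (φ ∣_ U) from h.isoPullback_inv_snd.symm]
    haveI := hU
    infer_instance
  haveI h2 : IsIso (pullback.snd φ I.subschemeι) := by
    rw [← hl]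
    have h := pullbackLeftPullbackSndIso φ U.ι l
    haveI : IsIso (pullback.snd (pullback.snd φ U.ι) l) := pullback_snd_iso_of_left_iso _ _
    rw [show pullback.snd φ (l ≫ U.ι) = (pullbackLeftPullbackSndIso φ U.ι l).inv ≫ pullback.snd (pullback.snd φ U.ι) l
      from (pullbackLeftPullbackSndIso_inv_snd_snd φ U.ι l).symm]
    infer_instance
  let g : (I.comap φ).subscheme ⟶ I.subscheme := (I.comapIso φ).hom ≫ pullback.snd φ I.subschemeι
  haveI : IsIso g := inferInstanceAs (IsIso ((I.comapIso φ).hom ≫ pullback.snd φ I.subschemeι))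
  have hg : g ≫ (I.subscheme ↘ Spec (CommRingCat.of k)) = (I.comap φ).subscheme ↘ Spec (CommRingCat.of k) := by
    show ((I.comapIso φ).hom ≫ pullback.snd φ I.subschemeι) ≫ I.subschemeι ≫ (X ↘ Spec (CommRingCat.of k)) =
      (I.comap φ).subschemeι ≫ (Y ↘ Spec (CommRingCat.of k))
    rw [Category.assoc, ← pullback.condition_assoc, hφ, Scheme.IdealSheafData.comapIso_hom_fst_assoc]
  obtain ⟨e⟩ := nonempty_push_structureModule g fun V => ConcreteCategory.bijective_of_isIso (g.app V)
  rw [← AmpleFin18.euler_push g hg _ (M1.isQCoh_structureModule _)]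
  exact CurveCoh17.euler_iso e

theorem residueDegree_genericPoint [IsIntegral Y] (U : X.Opens) (hU : IsIso (φ ∣_ U))
    (hη : φ (genericPoint Y) ∈ U) : φ.residueDegree (genericPoint Y) = 1 := by
  haveI := hU
  let z : (φ ⁻¹ᵁ U : Y.Opens) := ⟨genericPoint Y, hη⟩
  have hiso : IsIso (φ.stalkMap (genericPoint Y)) :=
    ((MorphismProperty.isomorphisms CommRingCat).arrow_mk_iso_iff (morphismRestrictStalkMap φ U z)).1
      (MorphismProperty.isomorphisms.infer_property _)
  have hsurj : Function.Surjective (φ.residueFieldMap (genericPoint Y)) := by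
    intro b
    obtain ⟨b, rfl⟩ := Scheme.residue_surjective Y (genericPoint Y) b
    obtain ⟨a, rfl⟩ := (ConcreteCategory.bijective_of_isIso (φ.stalkMap (genericPoint Y))).2 b
    exact ⟨X.residue _ a, ConcreteCategory.congr_hom (Scheme.residue_residueFieldMap φ (genericPoint Y)) a⟩
  letI := (φ.residueFieldMap (genericPoint Y)).hom.toAlgebra
  exact (LinearEquiv.ofBijective (Algebra.linearMap _ (Y.residueField (genericPoint Y)))
    ⟨(φ.residueFieldMap (genericPoint Y)).hom.injective, hsurj⟩).finrank_eq.symm.trans (Module.finrank_self _)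

theorem map_genericPoint [IsIntegral X] [IsIntegral Y] (U : X.Opens) (hU : IsIso (φ ∣_ U)) (hne : (U : Set X).Nonempty) :
    φ (genericPoint Y) = genericPoint X := by
  haveI := hU
  have hs : ∀ x ∈ U, x ∈ Set.range φ := fun x hx => by
    obtain ⟨w, hw⟩ := (Scheme.homeoOfIso (asIso (φ ∣_ U))).surjective ⟨x, hx⟩
    exact ⟨w.1, (morphismRestrict_base_coe φ U w).symm.trans (congrArg Subtype.val hw)⟩
  have hη : genericPoint X ∈ (U : Set X) := ((genericPoint_spec X).mem_open_set_iff U.2).2 (by simpa using hne)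
  obtain ⟨y, hy⟩ := hs _ hη
  have h1 : φ (genericPoint Y) ⤳ genericPoint X := hy ▸ (genericPoint_specializes y).map φ.continuous
  exact (h1.antisymm (genericPoint_specializes _)).eq

end iso

section defect

variable {k : Type u} [Field k] [IsAlgClosed k] {X Y : Scheme.{u}} [X.Over (Spec (CommRingCat.of k))]
  [Y.Over (Spec (CommRingCat.of k))] [IsProper (X ↘ Spec (CommRingCat.of k))]
  [IsProper (Y ↘ Spec (CommRingCat.of k))] [IsIntegral X] [IsIntegral Y] (φ : Y ⟶ X)
  (hφ : φ ≫ (X ↘ Spec (CommRingCat.of k)) = Y ↘ Spec (CommRingCat.of k))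
  (hdX : topologicalKrullDim X = ((2 : ℕ) : WithBot ℕ∞)) (hdY : topologicalKrullDim Y = ((2 : ℕ) : WithBot ℕ∞))
  (U : X.Opens) (hU : IsIso (φ ∣_ U)) (hfin : ((U : Set X)ᶜ).Finite)
include hφ hdX hdY hU hfin

/-- `χ(φ^*c) - χ(c)` does not depend on the class. -/
theorem defect (hne : (U : Set X).Nonempty) {H : X.Modules} (hH : CohB1.IsAmple H) (c : PicLoc.PicSet X) :
    chi k (pc φ c) - chi k c = chi k (1 : PicLoc.PicSet Y) - chi k (1 : PicLoc.PicSet X) := by
  haveI : IsNoetherian X := CohFound.isNoetherian_of_isProper (X ↘ Spec (CommRingCat.of k))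
  haveI : IsNoetherian Y := CohFound.isNoetherian_of_isProper (Y ↘ Spec (CommRingCat.of k))
  haveI : Infinite k := IsAlgClosed.instInfinite
  have hgen := map_genericPoint φ U hU hne
  have hηU : genericPoint X ∈ (U : Set X) := ((genericPoint_spec X).mem_open_set_iff U.2).2 (by simpa using hne)
  have hdeg := residueDegree_genericPoint φ U hU (hgen ▸ hηU)
  have hpc : ∀ {A : X.Modules} (hA : PicF.IsInvertible A), pc φ (PicGrp.cls A hA) =
      PicGrp.cls ((Scheme.Modules.pullback φ).obj A) (PicLoc.isInvertible_pullback φ hA) :=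
    fun hA => PicGrp.pullHom_cls φ _ _ hA
  have hsd : ∀ a b : PicLoc.PicSet X, sdot k (pc φ a) (pc φ b) = sdot k a b := fun a b => by
    have h := NumPoly18.dot_pullback_one (k := k) φ hφ hgen hdeg hdY (rep_inv a) (rep_inv b)
    rw [SymSq10.ndot_eq' (k := k) (rep_inv a) (rep_inv b),
      SymSq10.ndot_eq' (k := k) (PicLoc.isInvertible_pullback φ (rep_inv a)) (PicLoc.isInvertible_pullback φ (rep_inv b)),
      ← hpc (rep_inv a), ← hpc (rep_inv b), cls_rep, cls_rep] at h
    exact_mod_cast h
  let g : PicLoc.PicSet X → ℤ := fun c => chi k (pc φ c) - chi k c - (chi k (1 : PicLoc.PicSet Y) - chi k (1 : PicLoc.PicSet X))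
  suffices g c = 0 by simp only [g] at this; linarith
  have hmul : ∀ a b, g (a * b) = g a + g b := fun a b => by
    have h1 := SymSq10.chi_mul' (k := k) a b
    have h2 := SymSq10.chi_mul' (k := k) (pc φ a) (pc φ b)
    rw [hsd, ← map_mul] at h2
    simp only [g]
    linarith
  -- classes with a section avoiding the exceptional points
  have key : ∀ (M : X.Modules) (hM : PicF.IsInvertible M), Curv2.IsGloballyGenerated M → g (PicGrp.cls M hM) = 0 := by
    intro M hM hgg
    classical
    obtain ⟨s, hs⟩ := exists_section_gen k hM hgg (insert (genericPoint X) hfin.toFinset)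
    have hs0 : s ≠ 0 := fun h => by
      have hη := hs _ (Finset.mem_insert_self _ _)
      rw [h, Amp.mem_genLocus_iff hM, show Amp.gval (0 : Coh.structureModule X ⟶ M) = 0 from rfl, Amp.gm, map_zero] at hη
      exact one_ne_zero (hη.1 ((smul_zero (1 : X.presheaf.stalk (genericPoint X))).trans (smul_zero 0).symm))
    have hI := IrrDiv13.isEffCartier_zeroScheme hM s hs0
    have hIU : ((PicF2.zeroScheme M s).support : Set X) ⊆ U := fun x hx => by
      by_contra hxU
      rw [AffCompl.coe_support_zeroScheme hM s] at hx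
      exact hx (hs x (Finset.mem_insert_of_mem (hfin.mem_toFinset.2 hxU)))
    set I := PicF2.zeroScheme M s
    have hηI : φ (genericPoint Y) ∉ (I.support : Set X) := by
      rw [hgen, AffCompl.coe_support_zeroScheme hM s]
      exact fun h => h (hs _ (Finset.mem_insert_self _ _))
    have hJ := ArInter.isEffCartier_comap φ hI hηI
    obtain ⟨e⟩ := CurveTwist13.nonempty_pullback_idealMod_iso φ hI hJ
    have hIi := M2.isInvertible_idealMod I hI
    have hpcI : pc φ (PicGrp.cls _ hIi) = PicGrp.cls _ (M2.isInvertible_idealMod _ hJ) :=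
      (hpc hIi).trans ((PicGrp.cls_eq_cls_iff _ _).2 ⟨e⟩)
    have hqX := chi_quot (k := k) I hI
    have hqY := chi_quot (k := k) (I.comap φ) hJ
    have he := euler_quot_comap (k := k) φ hφ U hU I hIU
    have hgI : g (PicGrp.cls _ hIi) = 0 := by
      simp only [g, hpcI]
      linarith
    obtain ⟨M', hM', ⟨eM⟩⟩ := M2.exists_inverse hM
    obtain ⟨eI'⟩ := IrrDiv13.nonempty_inverse_iso_zeroScheme hM hM' eM s hs0
    let eI : CohB1.tensorMod M (ClSub.idealMod I) ≅ Coh.structureModule X := M2.tensorIso (Iso.refl M) eI'.symm ≪≫ eM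
    have hone : PicGrp.cls M hM * PicGrp.cls _ hIi = 1 := (PicGrp.cls_mul_cls_eq_one_iff hM hIi).2 ⟨eI⟩
    have h1 := hmul (PicGrp.cls M hM) (PicGrp.cls _ hIi)
    rw [hone] at h1
    have h0 : g 1 = 0 := by simp only [g, map_one]; ring
    omega
  have hc := rep_inv c
  obtain ⟨n₁, hn₁⟩ := RA.exists_globallyGenerated hH (rep c) (HypSq10.isCoh_rep c).1 (HypSq10.isCoh_rep c).2
  obtain ⟨n₂, hn₂⟩ := RA.exists_globallyGenerated hH (Coh.structureModule X) (M1.isCoh_structureModule X).1
    (M1.isCoh_structureModule X).2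
  have hHn := M2.isInvertible_tensorPow hH.1 (n₁ + n₂)
  have k1 := key _ (M2.isInvertible_tensor hc hHn) (hn₁ _ (Nat.le_add_right _ _))
  have k2 := key _ (M2.isInvertible_tensor (PicLoc.isInvertible_structureModule X) hHn) (hn₂ _ (Nat.le_add_left _ _))
  rw [← AlgEquiv22.cls_tensor hc hHn, cls_rep, hmul] at k1
  rw [← AlgEquiv22.cls_tensor (PicLoc.isInvertible_structureModule X) hHn,
    show PicGrp.cls (Coh.structureModule X) (PicLoc.isInvertible_structureModule X) = (1 : PicLoc.PicSet X) from
      PicGrp.cls_structureModule_eq_one .., one_mul] at k2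
  omega
where
  chi_quot {k : Type u} [Field k] {Z : Scheme.{u}} [Z.Over (Spec (CommRingCat.of k))]
      [IsProper (Z ↘ Spec (CommRingCat.of k))] (I : Z.IdealSheafData) (hI : BlowUp.IsEffCartierIdeal I) :
      Curv2.euler k Z (ClSub.quotMod I) =
        chi k (1 : PicLoc.PicSet Z) - chi k (PicGrp.cls _ (M2.isInvertible_idealMod I hI)) := by
    haveI : IsNoetherian Z := CohFound.isNoetherian_of_isProper (Z ↘ Spec (CommRingCat.of k))
    have h := ChiTwist22.euler_add_coh (k := k) (M2.shortExact_idealMod I)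
      (Snapper.isCoh_of_isInvertible (M2.isInvertible_idealMod I hI))
      (M1.isCoh_structureModule Z) (CurveCoh17.isCoh_quotMod I)
    rw [← HypSq10.euler_eq_chi (M2.isInvertible_idealMod I hI), HypSq10.chi_one]
    simp only at h
    linarith

end defect

end Groth.Agent.NormalRR10

end
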